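import Groth.Agent.SeesawLib.Stratum
import Groth.Agent.RankLocusLib.Local

/-!
The seesaw subscheme of a vector bundle.
-/

set_option autoImplicit false
set_option maxRecDepth 8000
set_option maxHeartbeats 1000000

noncomputable section

universe u

open CategoryTheory CategoryTheory.Limits AlgebraicGeometry TopologicalSpace Opposite
open CohCmpLib (sqIso)

namespace SeesawLib

theorem exists_hom_of_cover {T Z S : Scheme.{u}} (i : Z ⟶ S) [Mono i] (g : T ⟶ S)
    (h : ∀ t : T, ∃ V : T.Opens, t ∈ V ∧ ∃ l : V.toScheme ⟶ Z, l ≫ i = V.ι ≫ g) : ∃ l : T ⟶ Z, l ≫ i = g := by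
  choose V hV l hl using h
  let 𝒰 : T.OpenCover := T.openCoverOfIsOpenCover V (eq_top_iff.2 fun t _ => Opens.mem_iSup.2 ⟨t, hV t⟩)
  have hc : ∀ a b : T, pullback.fst (V a).ι (V b).ι ≫ l a = pullback.snd (V a).ι (V b).ι ≫ l b := fun a b => by
    rw [← cancel_mono i, Category.assoc, Category.assoc, hl, hl, ← Category.assoc, ← Category.assoc,
      pullback.condition]
  refine ⟨𝒰.glueMorphisms l hc, 𝒰.hom_ext _ _ fun a => ?_⟩
  rw [Scheme.Cover.ι_glueMorphisms_assoc]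
  exact hl a

variable {X S : Scheme.{u}} {f : X ⟶ S} [IsProper f] [Flat f] [LocallyOfFinitePresentation f]
  {E : X.Modules}

/-- **The seesaw subscheme of a vector bundle**. -/
theorem exists_seesaw (hf : CubeLib.UnivO f) [Surjective f] (hconn : ∀ s, PreconnectedSpace (f.fiber s))
    (hE : FlatMod.IsFinLocFree E) :
    ∃ (Z : Scheme.{u}) (ι : Z ⟶ S), IsImmersion ι ∧ LocallyOfFinitePresentation ι ∧ QuasiCompact ι ∧
      (∀ (T : Scheme.{u}) (u : T ⟶ S), (∃ u' : T ⟶ Z, u' ≫ ι = u) ↔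
        ∃ M : T.Modules, FlatMod.IsFinLocFree M ∧
          Nonempty ((Scheme.Modules.pullback (pullback.fst f u)).obj E ≅
            (Scheme.Modules.pullback (pullback.snd f u)).obj M)) ∧
      Set.range ι = {s : S | ∃ n : ℕ, Nonempty ((Scheme.Modules.pullback (f.fiberι s)).obj E ≅
        FlatMod.freeMod (f.fiber s) n)} := by
  choose Zn jn hj hj1 hj2 hrange hu using exists_stratum hf hconn hE
  let P : ∀ T : Scheme.{u}, (T ⟶ S) → Prop := fun T u =>
    ∀ t : T, ∃ (n : ℕ) (V : T.Opens), t ∈ V ∧ ∃ l : V.toScheme ⟶ Zn n, l ≫ jn n = V.ι ≫ u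
  have hres : ∀ {T : Scheme.{u}} (u : T ⟶ S) (W : T.Opens), P T u → P _ (W.ι ≫ u) := fun {T} u W h t => by
    obtain ⟨n, V, htV, l, hl⟩ := h t.1
    have hr : Set.range ((W.ι ⁻¹ᵁ V).ι ≫ W.ι) ⊆ Set.range V.ι := by
      rw [Scheme.Opens.range_ι]
      rintro _ ⟨a, rfl⟩
      exact a.2
    refine ⟨n, W.ι ⁻¹ᵁ V, htV, IsOpenImmersion.lift V.ι ((W.ι ⁻¹ᵁ V).ι ≫ W.ι) hr ≫ l, ?_⟩
    rw [Category.assoc, hl, ← Category.assoc, IsOpenImmersion.lift_fac, Category.assoc]
  have hlocal : ∀ {T : Scheme.{u}} (u : T ⟶ S),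
      (∀ t : T, ∃ V : T.Opens, t ∈ V ∧ P _ (V.ι ≫ u)) → P T u := fun {T} u h t => by
    obtain ⟨V, htV, hV⟩ := h t
    obtain ⟨n, V', htV', l, hl⟩ := hV ⟨t, htV⟩
    let U := V.ι ''ᵁ V'
    have hr : Set.range U.ι ⊆ Set.range (V'.ι ≫ V.ι) := by
      rw [Scheme.Opens.range_ι]
      rintro _ ⟨a, ha, rfl⟩
      exact ⟨⟨a, ha⟩, rfl⟩
    refine ⟨n, U, ⟨⟨t, htV⟩, htV', rfl⟩, IsOpenImmersion.lift (V'.ι ≫ V.ι) U.ι hr ≫ l, ?_⟩
    rw [Category.assoc, hl, ← Category.assoc V'.ι, ← Category.assoc, IsOpenImmersion.lift_fac]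
  have hmemn : ∀ (n : ℕ) {T : Scheme.{u}} (u : T ⟶ S) (l : T ⟶ Zn n), l ≫ jn n = u →
      ∀ t, u t ∈ baseRank f E n := fun n T u l hl t => hrange n ⟨l t, by rw [← Scheme.Hom.comp_apply, hl]⟩
  have hrep : ∀ x : S, ∃ (V : S.Opens) (Zl : Scheme.{u}) (il : Zl ⟶ V.toScheme), x ∈ V ∧ IsImmersion il ∧
      LocallyOfFinitePresentation il ∧ QuasiCompact il ∧
      ∀ (T : Scheme.{u}) (g : T ⟶ V.toScheme), P T (g ≫ V.ι) ↔ ∃ l : T ⟶ Zl, l ≫ il = g := fun x => by
    obtain ⟨n, hn⟩ := exists_baseRank hE hconn x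
    let W := baseRank f E n
    refine ⟨W, pullback (jn n) W.ι, pullback.snd _ _, hn, MorphismProperty.pullback_snd _ _ (hj n),
      MorphismProperty.pullback_snd _ _ (hj1 n), MorphismProperty.pullback_snd _ _ (hj2 n), fun T g => ?_⟩
    constructor
    · intro h
      have := hj n
      obtain ⟨l, hl⟩ := exists_hom_of_cover (jn n) (g ≫ W.ι) fun t => by
        obtain ⟨m, V, htV, l, hl⟩ := h t
        have hm := hmemn m _ l hl ⟨t, htV⟩
        have hn' : (V.ι ≫ g ≫ W.ι) ⟨t, htV⟩ ∈ baseRank f E n := by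
          rw [← Category.assoc, Scheme.Hom.comp_apply]
          exact ((V.ι ≫ g) ⟨t, htV⟩).2
        obtain rfl := baseRank_unique hm hn'
        exact ⟨V, htV, l, hl⟩
      exact ⟨pullback.lift l g hl, pullback.lift_snd _ _ _⟩
    · rintro ⟨l, rfl⟩ t
      refine ⟨n, ⊤, trivial, (⊤ : T.Opens).ι ≫ l ≫ pullback.fst _ _, ?_⟩
      rw [Category.assoc, Category.assoc, pullback.condition, Category.assoc]
  obtain ⟨Z, ι, hι, huniv⟩ := RankLocusLib.exists_immersion_of_local P hres hlocal fun x => by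
    obtain ⟨V, Zl, il, hx, hi, -, -, h⟩ := hrep x
    exact ⟨V, hx, Zl, il, hi, h⟩
  have hl1 : LocallyOfFinitePresentation ι :=
    RankLocusLib.property_of_local @LocallyOfFinitePresentation.{u} ι huniv fun x => by
      obtain ⟨V, Zl, il, hx, hi, h2, -, h⟩ := hrep x
      exact ⟨V, Zl, il, hx, inferInstance, h2, h⟩
  have hl2 : QuasiCompact ι :=
    RankLocusLib.property_of_local @QuasiCompact.{u} ι huniv fun x => by
      obtain ⟨V, Zl, il, hx, hi, -, h3, h⟩ := hrep x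
      exact ⟨V, Zl, il, hx, inferInstance, h3, h⟩
  have hiff : ∀ (T : Scheme.{u}) (u : T ⟶ S), (∃ u' : T ⟶ Z, u' ≫ ι = u) ↔
      ∃ M : T.Modules, FlatMod.IsFinLocFree M ∧
        Nonempty ((Scheme.Modules.pullback (pullback.fst f u)).obj E ≅
          (Scheme.Modules.pullback (pullback.snd f u)).obj M) := fun T u => by
    rw [huniv]
    let fT := pullback.snd f u
    let gT := pullback.fst f u
    have H : IsPullback gT fT f u := IsPullback.of_hasPullback _ _
    have hfT := hf.of_isPullback H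
    let F := (Scheme.Modules.pullback gT).obj E
    have hF : FlatMod.IsFinLocFree F := KFlatLib.isFinLocFree_pull gT hE
    constructor
    · intro hP
      have key : ∀ t : T, ∃ (n : ℕ) (V : T.Opens) (M : V.toScheme.Modules), t ∈ V ∧
          FlatMod.IsFinLocFreeOfRank n M ∧ Nonempty ((Scheme.Modules.pullback (fT ⁻¹ᵁ V).ι).obj F ≅
            (Scheme.Modules.pullback (fT ∣_ V)).obj M) := fun t => by
        obtain ⟨n, V, htV, l, hl⟩ := hP t
        obtain ⟨M, hM, ⟨e⟩⟩ := ((hu n _ _).1 ⟨l, hl⟩).2 _ _ _ ((isPullback_morphismRestrict fT V).flip.paste_horiz H)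
        exact ⟨n, V, M, htV, hM, ⟨(Scheme.Modules.pullbackComp _ gT).app E ≪≫ e⟩⟩
      let P' := (Scheme.Modules.pushforward fT).obj F
      let cT : (Scheme.Modules.pullback fT).obj P' ⟶ F := (Scheme.Modules.pullbackPushforwardAdjunction fT).counit.app F
      have hP' : FlatMod.IsFinLocFree P' := fun t => by
        obtain ⟨n, V, M, htV, hM, ⟨e⟩⟩ := key t
        have HV := (isPullback_morphismRestrict fT V).flip
        have := isIso_bc0_open HV F
        have hr := rank_push_pulled (hfT.of_isPullback HV) hM e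
        have h1 : FlatMod.IsFinLocFree (P'.restrict V.ι) := isFinLocFree_of_rank (isFinLocFreeOfRank_of_iso hr
          ((Scheme.Modules.restrictFunctorIsoPullback V.ι).app P' ≪≫
            asIso (CohBC.bc0 fT V.ι (fT ∣_ V) (fT ⁻¹ᵁ V).ι HV.w F)))
        obtain ⟨U, m, hU, ⟨a⟩⟩ := h1 ⟨t, htV⟩
        refine ⟨V.ι ''ᵁ U, m, ⟨⟨t, htV⟩, hU, rfl⟩, ?_⟩
        obtain ⟨l, hl⟩ : ∃ l : (V.ι ''ᵁ U).toScheme ⟶ U.toScheme, l ≫ U.ι ≫ V.ι = (V.ι ''ᵁ U).ι :=
          ⟨IsOpenImmersion.lift (U.ι ≫ V.ι) (V.ι ''ᵁ U).ι (by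
            rw [Scheme.Opens.range_ι]
            rintro _ ⟨b, hb, rfl⟩
            exact ⟨⟨b, hb⟩, rfl⟩), IsOpenImmersion.lift_fac _ _ _⟩
        exact ⟨(Scheme.Modules.restrictFunctorIsoPullback _).app P' ≪≫
          (Scheme.Modules.pullbackCongr hl.symm).app P' ≪≫ ((Scheme.Modules.pullbackComp l _).app P').symm ≪≫
          (Scheme.Modules.pullback l).mapIso (((Scheme.Modules.pullbackComp U.ι V.ι).app P').symm ≪≫
            (Scheme.Modules.pullback U.ι).mapIso ((Scheme.Modules.restrictFunctorIsoPullback V.ι).app P').symm ≪≫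
            ((Scheme.Modules.restrictFunctorIsoPullback U.ι).app _).symm ≪≫ a) ≪≫ KFlatLib.pullFreeIso l m⟩
      have : IsIso cT := isIso_of_bijAt _ fun x => by
        obtain ⟨n, V, M, htV, hM, ⟨e⟩⟩ := key (fT x)
        have HV := (isPullback_morphismRestrict fT V).flip
        have := isIso_bc0_open HV F
        have := isIso_counit_pulled (hfT.of_isPullback HV) (isFinLocFree_of_rank hM) e
        have h : IsIso ((sqIso HV.w).hom.app P' ≫ (Scheme.Modules.pullback (fT ⁻¹ᵁ V).ι).map cT) := by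
          rw [← CohCmpLib.bc0_counit HV.w F]; infer_instance
        have : IsIso ((Scheme.Modules.pullback (fT ⁻¹ᵁ V).ι).map cT) :=
          IsIso.of_isIso_comp_left ((sqIso HV.w).hom.app P') _
        exact (bijAt_pullback (fT ⁻¹ᵁ V).ι cT (KFlatLib.isFinLocFree_pull fT hP') hF ⟨x, htV⟩).1 (bijAt_of_isIso _ _)
      exact ⟨P', hP', ⟨(asIso cT).symm⟩⟩
    · rintro ⟨M, hM, ⟨e⟩⟩ t
      obtain ⟨V, n, htV, ⟨a⟩⟩ := hM t
      have hMV : FlatMod.IsFinLocFreeOfRank n ((Scheme.Modules.pullback V.ι).obj M) :=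
        isFinLocFreeOfRank_of_iso (M := FlatMod.freeMod V.toScheme n)
          (fun v => ⟨⊤, trivial, ⟨(Scheme.Modules.restrictFunctorIsoPullback _).app _ ≪≫ KFlatLib.pullFreeIso _ n⟩⟩)
          (((Scheme.Modules.restrictFunctorIsoPullback _).app M).symm ≪≫ a)
      refine ⟨n, V, htV, (hu n _ _).2 ⟨fun v => ?_, fun XV gV fV HV => ?_⟩⟩
      · refine (mem_baseRank f E).2 fun x hx => ?_
        obtain ⟨z, hz1, hz2⟩ := Scheme.Pullback.exists_preimage_pullback (f := f) (g := u) x v.1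
          (hx.trans (Scheme.Hom.comp_apply _ _ _))
        have h1 : v.1 ∈ RankSet M n := (mem_rankSet_pullback_iff hM V.ι v n).1 (rankSet_of_rank hMV v)
        have h2 : z ∈ RankSet ((Scheme.Modules.pullback fT).obj M) n :=
          (mem_rankSet_pullback_iff hM fT z n).2 (hz2.symm ▸ h1)
        exact hz1 ▸ (mem_rankSet_pullback_iff hE gT z n).1 (rankSet_of_iso e.symm h2)
      · let k : XV ⟶ pullback f u := pullback.lift gV (fV ≫ V.ι) (by rw [HV.w, Category.assoc])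
        have hk : k ≫ fT = fV ≫ V.ι := pullback.lift_snd _ _ _
        exact ⟨_, hMV, ⟨(Scheme.Modules.pullbackCongr (pullback.lift_fst _ _ _).symm).app E ≪≫
          ((Scheme.Modules.pullbackComp k gT).app E).symm ≪≫ (Scheme.Modules.pullback k).mapIso e ≪≫
          ((sqIso hk).app M).symm⟩⟩
  refine ⟨Z, ι, hι, hl1, hl2, hiff, Set.ext fun s => ⟨?_, ?_⟩⟩
  · rintro ⟨z, rfl⟩
    have hsurj : Function.Surjective (ι.residueFieldMap z) := fun a => by
      obtain ⟨b, rfl⟩ := Z.residue_surjective z a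
      obtain ⟨c, rfl⟩ := ι.stalkMap_surjective z b
      exact ⟨S.residue (ι z) c, congr($(Scheme.residue_residueFieldMap ι z) c)⟩
    have : IsIso (ι.residueFieldMap z) :=
      (ConcreteCategory.isIso_iff_bijective _).2 ⟨(ι.residueFieldMap z).hom.injective, hsurj⟩
    obtain ⟨M, hM, ⟨e⟩⟩ := (hiff _ (S.fromSpecResidueField (ι z))).1
      ⟨Spec.map (inv (ι.residueFieldMap z)) ≫ Z.fromSpecResidueField z, by
        rw [Category.assoc, ← Scheme.Hom.SpecMap_residueFieldMap_fromSpecResidueField, ← Category.assoc,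
          ← Spec.map_comp, IsIso.hom_inv_id, Spec.map_id, Category.id_comp]⟩
    obtain ⟨p⟩ : Nonempty (Spec (S.residueField (ι z))) := inferInstance
    obtain ⟨V, n, hpV, ⟨a⟩⟩ := hM p
    have hV : V = ⊤ := top_le_iff.1 fun q _ => by rwa [Subsingleton.elim q p]
    subst hV
    let j := (Spec (S.residueField (ι z))).topIso.inv
    let b : M ≅ FlatMod.freeMod _ n := ((Scheme.Modules.pullbackId _).app M).symm ≪≫
      (Scheme.Modules.pullbackCongr (show 𝟙 _ = j ≫ (⊤ : Scheme.Opens _).ι by simp [j])).app M ≪≫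
      ((Scheme.Modules.pullbackComp j _).app M).symm ≪≫
      (Scheme.Modules.pullback j).mapIso (((Scheme.Modules.restrictFunctorIsoPullback _).app M).symm ≪≫ a) ≪≫
      KFlatLib.pullFreeIso j n
    exact ⟨n, ⟨e ≪≫ (Scheme.Modules.pullback _).mapIso b ≪≫ KFlatLib.pullFreeIso _ n⟩⟩
  · rintro ⟨n, ⟨e⟩⟩
    obtain ⟨l, hl⟩ := (hiff _ (S.fromSpecResidueField s)).2 ⟨FlatMod.freeMod _ n,
      fun x => ⟨⊤, n, trivial, ⟨(Scheme.Modules.restrictFunctorIsoPullback _).app _ ≪≫ KFlatLib.pullFreeIso _ n⟩⟩,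
      ⟨e ≪≫ (KFlatLib.pullFreeIso _ n).symm⟩⟩
    obtain ⟨p⟩ : Nonempty (Spec (S.residueField s)) := inferInstance
    exact ⟨l p, by rw [← Scheme.Hom.comp_apply, hl, Scheme.fromSpecResidueField_apply]⟩

end SeesawLib
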