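import Groth.Agent.CohCmpLib.UnitFibre
import Groth.Agent.CohCmpLib.PuSec

/-!
Direct images commute with restriction to open subschemes.
-/

set_option autoImplicit false
set_option maxRecDepth 8000

noncomputable section

universe u

open CategoryTheory CategoryTheory.Limits AlgebraicGeometry TopologicalSpace Opposite
open KFlatLib (puSec puSecLE)

namespace SeesawLib

variable {X Y : Scheme.{u}}

theorem puSecLE_bijective (j : X ⟶ Y) [IsOpenImmersion j] (M : Y.Modules) {U : Y.Opens} {W : X.Opens}
    (hW : W ≤ j ⁻¹ᵁ U) (e : j ''ᵁ W = U) : Function.Bijective (puSecLE j M hW) := by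
  subst e
  have key : ⇑(puSecLE j M hW) = ((Scheme.Modules.restrictFunctorIsoPullback j).hom.app M).app W ∘
      (M.restrictAppIso j W).inv ∘ M.presheaf.map (homOfLE ((j.image_mono hW).trans (j.image_preimage_le _))).op :=
    funext fun m => (CohCmpLib.restrictIso_puSec j M m hW).symm
  rw [key]
  refine (ConcreteCategory.bijective_of_isIso (((Scheme.Modules.restrictFunctorIsoPullback j).hom.app M).app W)).comp
    ((ConcreteCategory.bijective_of_isIso (M.restrictAppIso j W).inv).comp ?_)
  have : IsIso (homOfLE ((j.image_mono hW).trans (j.image_preimage_le (j ''ᵁ W)))) :=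
    ⟨homOfLE le_rfl, Subsingleton.elim _ _, Subsingleton.elim _ _⟩
  exact ConcreteCategory.bijective_of_isIso _

theorem image_preimage_of_isPullback {X' S' S : Scheme.{u}} {f : X ⟶ S} {g : S' ⟶ S} {f' : X' ⟶ S'}
    {g' : X' ⟶ X} (H : IsPullback g' f' f g) [IsOpenImmersion g] [IsOpenImmersion g'] {U : S.Opens}
    (hU : U ≤ g.opensRange) : g' ''ᵁ (f' ⁻¹ᵁ (g ⁻¹ᵁ U)) = f ⁻¹ᵁ U := by
  apply Opens.ext
  ext x
  constructor
  · rintro ⟨z, hz, rfl⟩
    show f (g' z) ∈ U
    rw [← Scheme.Hom.comp_apply, H.w, Scheme.Hom.comp_apply]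
    exact hz
  · intro hx
    obtain ⟨w, hw⟩ : f x ∈ Set.range g := hU hx
    obtain ⟨p, hp, hp'⟩ := Scheme.Pullback.exists_preimage_pullback (f := f) (g := g) x w hw.symm
    have e : g' (H.isoPullback.inv p) = x := by
      rw [← Scheme.Hom.comp_apply, H.isoPullback_inv_fst]; exact hp
    refine ⟨H.isoPullback.inv p, ?_, e⟩
    show g (f' (H.isoPullback.inv p)) ∈ U
    rw [← Scheme.Hom.comp_apply f' g, ← H.w, Scheme.Hom.comp_apply, e]
    exact hx

/-- **Flat base change in degree zero along open immersions.** -/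
theorem isIso_bc0_open {X' S' S : Scheme.{u}} {f : X ⟶ S} {g : S' ⟶ S} {f' : X' ⟶ S'} {g' : X' ⟶ X}
    (H : IsPullback g' f' f g) [IsOpenImmersion g] (F : X.Modules) :
    IsIso (CohBC.bc0 f g f' g' H.w F) := by
  have : IsOpenImmersion g' := MorphismProperty.of_isPullback H.flip ‹_›
  refine RpushLib.isIso_of_bijective_basis _ S'.isBasis_affineOpens fun V _ => ?_
  have key : ∀ U : S.Opens, U ≤ g.opensRange →
      Function.Bijective ((CohBC.bc0 f g f' g' H.w F).app (g ⁻¹ᵁ U)) := fun U hU => by
    have hp : Function.Bijective (puSec g (M := (Scheme.Modules.pushforward f).obj F) (U := U)) := by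
      have h := puSecLE_bijective g ((Scheme.Modules.pushforward f).obj F) (le_refl (g ⁻¹ᵁ U))
        (by rw [Scheme.Hom.image_preimage_eq_opensRange_inf]; exact inf_eq_right.2 hU)
      have e : ⇑(puSecLE g ((Scheme.Modules.pushforward f).obj F) (le_refl (g ⁻¹ᵁ U))) =
          (puSec g (M := (Scheme.Modules.pushforward f).obj F) (U := U)) :=
        funext fun m => (KFlatLib.puSecLE_apply _ _ _ m).trans (congr($(((Scheme.Modules.pullback g).obj _).presheaf.map_id _) _))
      rwa [e] at h
    refine (Function.Bijective.of_comp_iff _ hp).1 ?_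
    have e : (⇑((CohBC.bc0 f g f' g' H.w F).app (g ⁻¹ᵁ U)) ∘ (puSec g (M := (Scheme.Modules.pushforward f).obj F) (U := U))) =
        ⇑(puSecLE g' F (CohCmp.sqLE f g f' g' H.w U)) := funext fun m => CohCmpLib.bc0_puSec H.w F m
    rw [e]
    exact puSecLE_bijective g' F _ (image_preimage_of_isPullback H hU)
  have := key (g ''ᵁ V) (g.image_le_opensRange V)
  rwa [g.preimage_image_eq] at this

end SeesawLib
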