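import Groth.Agent.SeesawLib.StalkLocus

/-!
The rank of a vector bundle along the fibres of a morphism with connected fibres.
-/

set_option autoImplicit false
set_option maxRecDepth 8000

noncomputable section

universe u

open CategoryTheory CategoryTheory.Limits AlgebraicGeometry TopologicalSpace Opposite
open ProjFormLib (IsFrame exists_frame)

namespace SeesawLib

variable {X Z S : Scheme.{u}}

/-- The locus of rank `n`. -/
def RankSet (E : X.Modules) (n : ℕ) : Set X :=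
  {x | ∃ (U : X.Opens) (e : Fin n → Γ(E, U)), x ∈ U ∧ IsFrame E e}

theorem isOpen_rankSet (E : X.Modules) (n : ℕ) : IsOpen (RankSet E n) :=
  isOpen_iff_forall_mem_open.2 fun _ ⟨U, e, hx, he⟩ => ⟨U, fun _ hy => ⟨U, e, hy, he⟩, U.2, hx⟩

theorem rankSet_unique {E : X.Modules} {n m : ℕ} {x : X} (h : x ∈ RankSet E n) (h' : x ∈ RankSet E m) : n = m := by
  obtain ⟨U, e, hx, he⟩ := h
  obtain ⟨V, e', hx', he'⟩ := h'
  simpa using Fintype.card_congr ((he.basis x hx).indexEquiv (he'.basis x hx'))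

theorem exists_mem_rankSet {E : X.Modules} (hE : FlatMod.IsFinLocFree E) (x : X) : ∃ n, x ∈ RankSet E n := by
  obtain ⟨U, n, e, hx, he⟩ := exists_frame hE x
  exact ⟨n, U, e, hx, he⟩

theorem mem_rankSet_pullback_iff {E : X.Modules} (hE : FlatMod.IsFinLocFree E) (g : Z ⟶ X) (z : Z) (n : ℕ) :
    z ∈ RankSet ((Scheme.Modules.pullback g).obj E) n ↔ g z ∈ RankSet E n := by
  have key : ∀ m, g z ∈ RankSet E m → z ∈ RankSet ((Scheme.Modules.pullback g).obj E) m :=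
    fun m ⟨U, e, hx, he⟩ => ⟨g ⁻¹ᵁ U, _, hx, CohCmpLib.isFrame_puSec g he⟩
  refine ⟨fun h => ?_, key n⟩
  obtain ⟨m, hm⟩ := exists_mem_rankSet hE (g z)
  exact rankSet_unique h (key m hm) ▸ hm

theorem rankSet_of_iso {E E' : X.Modules} (e : E ≅ E') {n : ℕ} {x : X} (h : x ∈ RankSet E n) :
    x ∈ RankSet E' n := by
  obtain ⟨U, a, hx, ha⟩ := h
  exact ⟨U, _, hx, ha.map e⟩

theorem rankSet_freeMod (X : Scheme.{u}) (n : ℕ) (x : X) : x ∈ RankSet (FlatMod.freeMod X n) n := by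
  obtain ⟨t, ht⟩ := ProjFormLib.isFrame_freeMod X n
  exact ⟨⊤, t, trivial, ht⟩

theorem rankSet_of_rank {E : X.Modules} {n : ℕ} (hE : FlatMod.IsFinLocFreeOfRank n E) (x : X) :
    x ∈ RankSet E n := by
  obtain ⟨U, hx, ⟨φ⟩⟩ := hE x
  have h : (⟨x, hx⟩ : U.toScheme) ∈ RankSet ((Scheme.Modules.pullback U.ι).obj E) n :=
    rankSet_of_iso ((φ.symm ≪≫ (Scheme.Modules.restrictFunctorIsoPullback U.ι).app E)) (rankSet_freeMod _ _ _)
  exact (mem_rankSet_pullback_iff (fun y => let ⟨V, hV⟩ := hE y; ⟨V, n, hV⟩) U.ι ⟨x, hx⟩ n).1 h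

theorem isFinLocFreeOfRank_pullback (g : Z ⟶ X) {M : X.Modules} {n : ℕ} (hM : FlatMod.IsFinLocFreeOfRank n M) :
    FlatMod.IsFinLocFreeOfRank n ((Scheme.Modules.pullback g).obj M) := fun z => by
  obtain ⟨U, hU, ⟨e⟩⟩ := hM (g z)
  exact ⟨g ⁻¹ᵁ U, hU, ⟨(KFlatLib.restrictPullIso g U).app M ≪≫
    (Scheme.Modules.pullback (g ∣_ U)).mapIso e ≪≫ KFlatLib.pullFreeIso (g ∣_ U) n⟩⟩

variable (f : X ⟶ S) [IsProper f] (E : X.Modules)

/-- The base points over which the rank is `n`. -/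
def baseRank (n : ℕ) : S.Opens :=
  ⟨(f '' (RankSet E n)ᶜ)ᶜ, (f.isClosedMap _ (isOpen_rankSet E n).isClosed_compl).isOpen_compl⟩

theorem mem_baseRank {n : ℕ} {s : S} : s ∈ baseRank f E n ↔ ∀ x, f x = s → x ∈ RankSet E n :=
  ⟨fun h x hx => by_contra fun hne => h ⟨x, hne, hx⟩, fun h ⟨x, hx, hxs⟩ => hx (h x hxs)⟩

variable {f E}

theorem baseRank_unique [Surjective f] {n m : ℕ} {s : S} (h : s ∈ baseRank f E n) (h' : s ∈ baseRank f E m) :
    n = m := by
  obtain ⟨x, rfl⟩ := f.surjective s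
  exact rankSet_unique ((mem_baseRank f E).1 h x rfl) ((mem_baseRank f E).1 h' x rfl)

theorem exists_baseRank [Surjective f] (hE : FlatMod.IsFinLocFree E) (hconn : ∀ s, PreconnectedSpace (f.fiber s))
    (s : S) : ∃ n, s ∈ baseRank f E n := by
  obtain ⟨x₀, rfl⟩ := f.surjective s
  obtain ⟨n, hn⟩ := exists_mem_rankSet hE x₀
  refine ⟨n, (mem_baseRank f E).2 fun x hx => ?_⟩
  let A : Set (f.fiber (f x₀)) := (f.fiberι (f x₀)) ⁻¹' RankSet E n
  have hA : IsClopen A := by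
    refine ⟨⟨isOpen_iff_forall_mem_open.2 fun z hz => ?_⟩, (isOpen_rankSet E n).preimage (f.fiberι (f x₀)).continuous⟩
    obtain ⟨m, hm⟩ := exists_mem_rankSet hE (f.fiberι (f x₀) z)
    exact ⟨(f.fiberι (f x₀)) ⁻¹' RankSet E m, fun w hw hw' => hz (show f.fiberι (f x₀) z ∈ RankSet E n from (rankSet_unique hw' hw).symm ▸ hm),
      (isOpen_rankSet E m).preimage (f.fiberι (f x₀)).continuous, hm⟩
  obtain ⟨z₀, hz₀⟩ : x₀ ∈ Set.range (f.fiberι (f x₀)) := by rw [f.range_fiberι]; rfl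
  obtain ⟨z, rfl⟩ : x ∈ Set.range (f.fiberι (f x₀)) := by rw [f.range_fiberι]; exact hx
  have := hconn (f x₀)
  have : A = Set.univ := hA.eq_univ ⟨z₀, show f.fiberι (f x₀) z₀ ∈ RankSet E n from hz₀.symm ▸ hn⟩
  exact (this.symm.subset (Set.mem_univ z) :)

theorem isClosed_baseRank [Surjective f] (hE : FlatMod.IsFinLocFree E)
    (hconn : ∀ s, PreconnectedSpace (f.fiber s)) (n : ℕ) : IsClosed (baseRank f E n : Set S) := by
  refine ⟨isOpen_iff_forall_mem_open.2 fun s hs => ?_⟩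
  obtain ⟨m, hm⟩ := exists_baseRank hE hconn s
  exact ⟨baseRank f E m, fun w hw hw' => hs (baseRank_unique hw' hw ▸ hm), (baseRank f E m).2, hm⟩

end SeesawLib
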