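import Groth.Agent.CubeLib.UnivO
import Groth.Agent.CohCmpLib.PicApps

/-!
Vector bundles pulled back from the base along a morphism with `O = f_* O`.
-/

set_option autoImplicit false
set_option maxRecDepth 8000

noncomputable section

universe u

open CategoryTheory CategoryTheory.Limits AlgebraicGeometry TopologicalSpace Opposite

namespace SeesawLib

variable {X T : Scheme.{u}} {f : X ⟶ T}

theorem isFinLocFree_of_rank {M : T.Modules} {n : ℕ} (hM : FlatMod.IsFinLocFreeOfRank n M) :
    FlatMod.IsFinLocFree M := fun x => let ⟨U, h⟩ := hM x; ⟨U, n, h⟩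

theorem isFinLocFreeOfRank_of_iso {M N : T.Modules} {n : ℕ} (hM : FlatMod.IsFinLocFreeOfRank n M) (e : N ≅ M) :
    FlatMod.IsFinLocFreeOfRank n N := fun x => by
  obtain ⟨U, hU, ⟨t⟩⟩ := hM x
  exact ⟨U, hU, ⟨(Scheme.Modules.restrictFunctor U.ι).mapIso e ≪≫ t⟩⟩

theorem isIso_counit_pulled (hf : CubeLib.UnivO f) {M : T.Modules} (hM : FlatMod.IsFinLocFree M) {F : X.Modules}
    (e : F ≅ (Scheme.Modules.pullback f).obj M) :
    IsIso ((Scheme.Modules.pullbackPushforwardAdjunction f).counit.app F) := by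
  have := CubeLib.isIso_unitToPush hf
  let a := Scheme.Modules.pullbackPushforwardAdjunction f
  have := CohCmpLib.isIso_unit_of_unitToPush f hM
  have h : IsIso ((Scheme.Modules.pullback f).map (a.unit.app M) ≫ a.counit.app ((Scheme.Modules.pullback f).obj M)) := by
    rw [a.left_triangle_components M]; infer_instance
  have h2 : IsIso (a.counit.app ((Scheme.Modules.pullback f).obj M)) :=
    IsIso.of_isIso_comp_left ((Scheme.Modules.pullback f).map (a.unit.app M)) _
  exact (NatTrans.isIso_app_iff_of_iso a.counit e).2 h2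

theorem rank_push_pulled (hf : CubeLib.UnivO f) {M : T.Modules} {n : ℕ} (hM : FlatMod.IsFinLocFreeOfRank n M)
    {F : X.Modules} (e : F ≅ (Scheme.Modules.pullback f).obj M) :
    FlatMod.IsFinLocFreeOfRank n ((Scheme.Modules.pushforward f).obj F) := by
  have := CubeLib.isIso_unitToPush hf
  obtain ⟨a⟩ := CohCmpLib.nonempty_push_pull_iso f (isFinLocFree_of_rank hM)
  exact isFinLocFreeOfRank_of_iso hM ((Scheme.Modules.pushforward f).mapIso e ≪≫ a)

theorem isIso_bc0_pulled (hf : CubeLib.UnivO f) {M : T.Modules} (hM : FlatMod.IsFinLocFree M) {F : X.Modules}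
    (e : F ≅ (Scheme.Modules.pullback f).obj M) {X' T' : Scheme.{u}} {g' : X' ⟶ X} {f' : X' ⟶ T'} {g : T' ⟶ T}
    (H : IsPullback g' f' f g) : IsIso (CohBC.bc0 f g f' g' H.w F) := by
  have := CubeLib.isIso_unitToPush hf
  have := CubeLib.isIso_unitToPush (hf.of_isPullback H)
  let η := (Scheme.Modules.pullbackPushforwardAdjunction f).unit.app M
  have : IsIso η := CohCmpLib.isIso_unit_of_unitToPush f hM
  have := CohCmpLib.isIso_unit_of_unitToPush f' (KFlatLib.isFinLocFree_pull g hM)
  have h : IsIso ((Scheme.Modules.pullback g).map η ≫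
      CohBC.bc0 f g f' g' H.w ((Scheme.Modules.pullback f).obj M)) := by
    rw [CohCmpLib.bc0_unitApp H.w M]; infer_instance
  have h1 : IsIso (CohBC.bc0 f g f' g' H.w ((Scheme.Modules.pullback f).obj M)) :=
    IsIso.of_isIso_comp_left ((Scheme.Modules.pullback g).map η) _
  have h2 : IsIso (CohBC.bc0 f g f' g' H.w F ≫
      (Scheme.Modules.pushforward f').map ((Scheme.Modules.pullback g').map e.hom)) := by
    rw [← CohCmpLib.bc0_map H.w e.hom]; infer_instance
  exact IsIso.of_isIso_comp_right _ ((Scheme.Modules.pushforward f').map ((Scheme.Modules.pullback g').map e.hom))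

theorem stratSq_pulled {X₀ : Scheme.{u}} (hf : CubeLib.UnivO f) {E : X₀.Modules} (gT : X ⟶ X₀) {M : T.Modules}
    {n : ℕ} (hM : FlatMod.IsFinLocFreeOfRank n M)
    (e : (Scheme.Modules.pullback gT).obj E ≅ (Scheme.Modules.pullback f).obj M) :
    CohCmpLib.StratSq E n f gT :=
  ⟨rank_push_pulled hf hM e, fun _ _ _ _ _ H => isIso_bc0_pulled hf (isFinLocFree_of_rank hM) e H⟩

end SeesawLib
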