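import Groth.Agent.SeesawLib.Ranks
import Groth.Agent.SeesawLib.Pulled
import Groth.Agent.SeesawLib.OpenBC

/-!
For one rank: the subscheme over which a vector bundle comes from the base.
-/

set_option autoImplicit false
set_option maxRecDepth 8000
set_option maxHeartbeats 1000000

noncomputable section

universe u

open CategoryTheory CategoryTheory.Limits AlgebraicGeometry TopologicalSpace Opposite
open CohCmpLib (sqIso)

namespace SeesawLib

theorem isCompact_of_isConstructible {R : Type u} [CommRing R] {s : Set (PrimeSpectrum R)}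
    (hs : Topology.IsConstructible s) : IsCompact s := by
  obtain ⟨A, _, φ, rfl⟩ := PrimeSpectrum.exists_range_eq_of_isConstructible hs
  exact isCompact_range (PrimeSpectrum.continuous_comap φ)

/-- An open subscheme with locally constructible complement is quasi-compact over the scheme. -/
theorem quasiCompact_ι {Y : Scheme.{u}} (Ω : Y.Opens) (h : Topology.IsLocallyConstructible (Ω : Set Y)) :
    QuasiCompact Ω.ι := by
  refine quasiCompact_iff_forall_isAffineOpen.2 fun W hW => ?_
  have h1 : IsCompact ((W : Set Y) ∩ Ω) := by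
    have h2 := h.preimage_of_isOpenEmbedding hW.fromSpec.isOpenEmbedding
    have h3 := (isCompact_of_isConstructible (R := Γ(Y, W)) h2.isConstructible).image hW.fromSpec.continuous
    have e : hW.fromSpec '' (hW.fromSpec ⁻¹' (Ω : Set Y)) = (W : Set Y) ∩ Ω := by
      rw [Set.image_preimage_eq_inter_range, hW.range_fromSpec, Set.inter_comm]
    exact (congrArg IsCompact e).mp h3
  rw [Ω.ι.isOpenEmbedding.isEmbedding.isCompact_iff]
  convert h1 using 1
  change Ω.ι '' (Ω.ι ⁻¹' (W : Set Y)) = _
  rw [Set.image_preimage_eq_inter_range, Scheme.Opens.range_ι]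

theorem isLocallyConstructible_compl {T : Type u} [TopologicalSpace T] {s : Set T}
    (h : Topology.IsLocallyConstructible s) : Topology.IsLocallyConstructible sᶜ := fun x => by
  obtain ⟨U, hU, hU', hc⟩ := h x
  exact ⟨U, hU, hU', by rw [Set.preimage_compl, Topology.isConstructible_compl]; exact hc⟩

variable {X S : Scheme.{u}} (f : X ⟶ S) [IsProper f] [Flat f] [LocallyOfFinitePresentation f]
  (E : X.Modules)

/-- A morphism to the base along which the bundle comes from the base with rank `n`. -/
def Pulled (n : ℕ) {T : Scheme.{u}} (u : T ⟶ S) : Prop :=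
  ∀ (XT : Scheme.{u}) (gT : XT ⟶ X) (fT : XT ⟶ T), IsPullback gT fT f u →
    ∃ M : T.Modules, FlatMod.IsFinLocFreeOfRank n M ∧
      Nonempty ((Scheme.Modules.pullback gT).obj E ≅ (Scheme.Modules.pullback fT).obj M)

variable {f E}

set_option backward.isDefEq.respectTransparency false in
/-- **The stratum of rank `n`**. -/
theorem exists_stratum (hf : CubeLib.UnivO f) [Surjective f] (hconn : ∀ s, PreconnectedSpace (f.fiber s))
    (hE : FlatMod.IsFinLocFree E) (n : ℕ) :
    ∃ (Z : Scheme.{u}) (j : Z ⟶ S), IsImmersion j ∧ LocallyOfFinitePresentation j ∧ QuasiCompact j ∧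
      Set.range j ⊆ (baseRank f E n : Set S) ∧
      ∀ (T : Scheme.{u}) (u : T ⟶ S), (∃ l : T ⟶ Z, l ≫ j = u) ↔
        ((∀ t, u t ∈ baseRank f E n) ∧ Pulled f E n u) := by
  obtain ⟨hQ, hfp, hfl⟩ := CohCmpLib.locFree_hyps f hE
  obtain ⟨Y, ι, hι, hι1, hι2, -, hiff, -⟩ := CohCmpLib.exists_strat n hfp hfl
  let fY := pullback.snd f ι
  let gY := pullback.fst f ι
  have HY : IsPullback gY fY f ι := IsPullback.of_hasPullback _ _
  have hfY : CubeLib.UnivO fY := hf.of_isPullback HY
  have hstY : CohCmpLib.StratSq E n fY gY := (hiff _ _ _ _ _ HY).1 ⟨𝟙 _, Category.id_comp _⟩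
  have : IsProper fY := MorphismProperty.pullback_snd _ _ ‹_›
  have : LocallyOfFinitePresentation fY := MorphismProperty.pullback_snd _ _ ‹_›
  let EY := (Scheme.Modules.pullback gY).obj E
  have hEY : FlatMod.IsFinLocFree EY := KFlatLib.isFinLocFree_pull gY hE
  let PY := (Scheme.Modules.pushforward fY).obj EY
  have hPY : FlatMod.IsFinLocFreeOfRank n PY := hstY.1
  let c : (Scheme.Modules.pullback fY).obj PY ⟶ EY :=
    (Scheme.Modules.pullbackPushforwardAdjunction fY).counit.app EY
  have hA : FlatMod.IsFinLocFree ((Scheme.Modules.pullback fY).obj PY) :=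
    KFlatLib.isFinLocFree_pull fY (isFinLocFree_of_rank hPY)
  let bad : Set Y := fY '' (BijAt c)ᶜ
  have hbad : IsClosed bad := fY.isClosedMap _ (isOpen_bijAt c hA hEY).isClosed_compl
  let Ω : Y.Opens := ⟨badᶜ ∩ ι ⁻¹' (baseRank f E n : Set S),
    hbad.isOpen_compl.inter ((baseRank f E n).2.preimage ι.continuous)⟩
  have hΩc : Topology.IsLocallyConstructible (Ω : Set Y) := by
    refine (isLocallyConstructible_compl (fY.isLocallyConstructible_image
      (isLocallyConstructible_compl (isLocallyConstructible_bijAt c hA hEY)))).inter ?_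
    refine IsRetrocompact.isLocallyConstructible ((baseRank f E n).2.preimage ι.continuous) fun K hK _ => ?_
    exact hK.inter_left ((isClosed_baseRank hE hconn n).preimage ι.continuous)
  have := quasiCompact_ι Ω hΩc
  have hmem : ∀ y : Y, y ∈ Ω ↔ (∀ x, fY x = y → x ∈ BijAt c) ∧ ι y ∈ baseRank f E n := fun y =>
    and_congr_left' ⟨fun h x hx => by_contra fun hne => h ⟨x, hne, hx⟩, fun h ⟨x, hx, hxy⟩ => hx (h x hxy)⟩
  refine ⟨Ω, Ω.ι ≫ ι, inferInstance, inferInstance, inferInstance, ?_, fun T u => ⟨?_, ?_⟩⟩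
  · rintro _ ⟨y, rfl⟩
    rw [Scheme.Hom.comp_apply]
    exact ((hmem y.1).1 y.2).2
  · rintro ⟨l, rfl⟩
    refine ⟨fun t => ?_, fun XT gT fT H => ?_⟩
    · rw [Scheme.Hom.comp_apply, Scheme.Hom.comp_apply]
      exact ((hmem (l t).1).1 (l t).2).2
    · let k : XT ⟶ pullback f ι := pullback.lift gT (fT ≫ l ≫ Ω.ι) (by rw [H.w, Category.assoc, Category.assoc])
      have Hk : IsPullback k fT fY (l ≫ Ω.ι) := IsPullback.of_right
        (by rw [pullback.lift_fst, Category.assoc]; exact H) (pullback.lift_snd _ _ _) HY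
      have : IsIso ((Scheme.Modules.pullback k).map c) := isIso_of_bijAt _ fun z =>
        (bijAt_pullback k c hA hEY z).2 (((hmem ((l ≫ Ω.ι) (fT z))).1 (l (fT z)).2).1 (k z) (by
          rw [← Scheme.Hom.comp_apply, pullback.lift_snd, ← Scheme.Hom.comp_apply]))
      exact ⟨(Scheme.Modules.pullback (l ≫ Ω.ι)).obj PY, isFinLocFreeOfRank_pullback _ hPY,
        ⟨(Scheme.Modules.pullbackCongr (pullback.lift_fst _ _ _).symm).app E ≪≫
          ((Scheme.Modules.pullbackComp k gY).app E).symm ≪≫ (asIso ((Scheme.Modules.pullback k).map c)).symm ≪≫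
          ((sqIso Hk.w).app PY).symm⟩⟩
  · rintro ⟨hu, hP⟩
    let fT := pullback.snd f u
    let gT := pullback.fst f u
    have H : IsPullback gT fT f u := IsPullback.of_hasPullback _ _
    obtain ⟨M, hM, ⟨e⟩⟩ := hP _ gT fT H
    have hfT := hf.of_isPullback H
    obtain ⟨u', hu'⟩ := (hiff _ _ _ _ _ H).2 (stratSq_pulled hfT gT hM e)
    let k : pullback f u ⟶ pullback f ι := pullback.lift gT (fT ≫ u') (by rw [H.w, Category.assoc, hu'])
    have Hk : IsPullback k fT fY u' := IsPullback.of_right
      (by rw [pullback.lift_fst, hu']; exact H) (pullback.lift_snd _ _ _) HY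
    let e' : (Scheme.Modules.pullback k).obj EY ≅ (Scheme.Modules.pullback fT).obj M :=
      (Scheme.Modules.pullbackComp k gY).app E ≪≫
        (Scheme.Modules.pullbackCongr (pullback.lift_fst _ _ _)).app E ≪≫ e
    have hc' := isIso_counit_pulled hfT (isFinLocFree_of_rank hM) e'
    have := hstY.2 k fT u' Hk
    have hkc : IsIso ((sqIso Hk.w).hom.app PY ≫ (Scheme.Modules.pullback k).map c) := by
      rw [← CohCmpLib.bc0_counit Hk.w EY]; infer_instance
    have : IsIso ((Scheme.Modules.pullback k).map c) := IsIso.of_isIso_comp_left ((sqIso Hk.w).hom.app PY) _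
    have hr : Set.range u' ⊆ Set.range Ω.ι := by
      rw [Scheme.Opens.range_ι]
      rintro _ ⟨t, rfl⟩
      refine (hmem (u' t)).2 ⟨fun x hx => ?_, ?_⟩
      · obtain ⟨p, hp, -⟩ := Scheme.Pullback.exists_preimage_pullback (f := fY) (g := u') x t hx
        have e0 : k (Hk.isoPullback.inv p) = x := by
          rw [← Scheme.Hom.comp_apply, Hk.isoPullback_inv_fst]; exact hp
        rw [← e0, ← bijAt_pullback k c hA hEY]
        exact bijAt_of_isIso _ _
      · rw [← Scheme.Hom.comp_apply, hu']
        exact hu t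
    exact ⟨IsOpenImmersion.lift Ω.ι u' hr, by rw [← Category.assoc, IsOpenImmersion.lift_fac, hu']⟩

end SeesawLib
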