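import Groth.Agent.CohCmpLib.FrameTools

/-!
The locus where a morphism of finite locally free modules is bijective on stalks.
-/

set_option autoImplicit false
set_option maxRecDepth 8000

noncomputable section

universe u

open CategoryTheory CategoryTheory.Limits AlgebraicGeometry TopologicalSpace Opposite
open ProjFormLib (ger IsFrame exists_frame ger_res ger_smul ger_map)
open KFlatLib (pb puSec)

namespace SeesawLib

variable {X : Scheme.{u}} {A B : X.Modules}

/-- Where the stalks of a morphism are bijective. -/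
def BijAt (c : A ⟶ B) : Set X := {x | Function.Bijective ((DerSch.stalkFunctor X x).map c).hom}

theorem ger_sum_smul (M : X.Modules) {n : ℕ} {U : X.Opens} (x : X) (hx : x ∈ U) (r : Fin n → Γ(X, U))
    (s : Fin n → Γ(M, U)) :
    ger M x hx (∑ i, r i • s i) = ∑ i, X.presheaf.germ U x hx (r i) • ger M x hx (s i) := by
  refine (map_sum (M.presheaf.germ U x hx).hom _ _).trans (Finset.sum_congr rfl fun i _ => ?_)
  exact ger_smul M x hx (r i) (s i)

theorem matrix_criterion (c : A ⟶ B) {n : ℕ} {U : X.Opens} {a : Fin n → Γ(A, U)} {b : Fin n → Γ(B, U)}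
    (ha : IsFrame A a) (hb : IsFrame B b) (M : Matrix (Fin n) (Fin n) Γ(X, U))
    (hM : ∀ j, c.app U (a j) = ∑ i, M i j • b i) {x : X} (hx : x ∈ U) :
    x ∈ BijAt c ↔ x ∈ X.basicOpen M.det := by
  let φ := ((DerSch.stalkFunctor X x).map c).hom
  let N : Matrix (Fin n) (Fin n) (X.presheaf.stalk x) := (X.presheaf.germ U x hx).hom.mapMatrix M
  have hN : LinearMap.toMatrix (ha.basis x hx) (hb.basis x hx) φ = N := by
    rw [← LinearEquiv.eq_symm_apply, LinearMap.toMatrix_symm]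
    refine (ha.basis x hx).ext fun j => ?_
    rw [Matrix.toLin_self, ha.basis_apply, ger_map, hM, ger_sum_smul]
    exact Finset.sum_congr rfl fun i _ => by rw [hb.basis_apply]; rfl
  rw [Scheme.mem_basicOpen _ _ _ hx, RingHom.map_det]
  change Function.Bijective φ ↔ IsUnit N.det
  rw [← hN]
  constructor
  · intro h
    exact LinearEquiv.isUnit_det (LinearEquiv.ofBijective φ h) _ _
  · intro h
    exact (LinearEquiv.ofIsUnitDet h).bijective

theorem exists_matrix (c : A ⟶ B) {n : ℕ} {U : X.Opens} {a : Fin n → Γ(A, U)} {b : Fin n → Γ(B, U)}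
    (hb : IsFrame B b) {x : X} (hx : x ∈ U) :
    ∃ (W : X.Opens) (hW : W ≤ U) (M : Matrix (Fin n) (Fin n) Γ(X, W)), x ∈ W ∧ IsAffineOpen W ∧
      ∀ j, c.app W (ProjFormLib.res A hW (a j)) = ∑ i, M i j • ProjFormLib.res B hW (b i) := by
  choose r hr using fun j => (hb x hx).2 (ger B x hx (c.app U (a j)))
  choose O hO m hm using fun p : Fin n × Fin n => X.presheaf.exists_germ_eq (x := x) (r p.2 p.1)
  let O' : X.Opens := Finset.univ.inf O ⊓ U
  have hO' : ∀ p, O' ≤ O p := fun p => inf_le_left.trans (Finset.inf_le (Finset.mem_univ p))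
  have hxO' : x ∈ O' := ⟨Finset.inf_induction (p := fun W : X.Opens => x ∈ W) trivial
    (fun _ h₁ _ h₂ => ⟨h₁, h₂⟩) fun p _ => hO p, hx⟩
  let m' : Fin n → Fin n → Γ(X, O') := fun i j => X.presheaf.map (homOfLE (hO' (i, j))).op (m (i, j))
  have hj : ∀ j, ∃ W : X.Opens, x ∈ W ∧ ∃ h : W ≤ O', ProjFormLib.res B h (c.app O' (ProjFormLib.res A inf_le_right (a j))) =
      ProjFormLib.res B h (∑ i, m' i j • ProjFormLib.res B inf_le_right (b i)) := fun j => by
    have e : ger B x hxO' (c.app O' (ProjFormLib.res A inf_le_right (a j))) =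
        ger B x hxO' (∑ i, m' i j • ProjFormLib.res B inf_le_right (b i)) := by
      rw [QCohLib.app_map, ger_sum_smul, ger_res, ← hr j, Fintype.linearCombination_apply]
      refine Finset.sum_congr rfl fun i _ => ?_
      rw [ger_res, TopCat.Presheaf.germ_res_apply, hm]
    obtain ⟨W, hxW, i₁, i₂, h⟩ := B.presheaf.germ_eq x hxO' hxO' _ _ e
    obtain rfl : i₁ = i₂ := Subsingleton.elim _ _
    exact ⟨W, hxW, i₁.le, h⟩
  choose W hxW hWO hWj using hj
  let W₀ : X.Opens := Finset.univ.inf W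
  have hW₀ : ∀ j, W₀ ≤ W j := fun j => Finset.inf_le (Finset.mem_univ j)
  have hxW₀ : x ∈ W₀ := Finset.inf_induction (p := fun W : X.Opens => x ∈ W) trivial
    (fun _ h₁ _ h₂ => ⟨h₁, h₂⟩) fun j _ => hxW j
  obtain ⟨W', hW', hxW', hle⟩ :=
    exists_isAffineOpen_mem_and_subset (X := X) (x := x) (U := W₀ ⊓ O') ⟨hxW₀, hxO'⟩
  have hW'' : W' ≤ W₀ ⊓ O' := hle
  refine ⟨W', (hW''.trans inf_le_right).trans inf_le_right,
    Matrix.of fun i j => X.presheaf.map (homOfLE (hW''.trans inf_le_right)).op (m' i j), hxW', hW', fun j => ?_⟩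
  refine ProjFormLib.section_ext _ _ fun y hy => ?_
  have h := congrArg (ger B y (U := W j) (hW₀ j (hW'' hy).1)) (hWj j)
  rw [ger_res, ger_res, QCohLib.app_map, ger_res, ger_sum_smul] at h
  rw [QCohLib.app_map, ger_res, ger_sum_smul, h]
  refine Finset.sum_congr rfl fun i _ => ?_
  rw [ger_res, ger_res, Matrix.of_apply, TopCat.Presheaf.germ_res_apply, TopCat.Presheaf.germ_res_apply]
  exact congrArg (· • _) (TopCat.Presheaf.germ_res_apply _ _ _ _ _).symm

theorem eq_of_bijAt (c : A ⟶ B) {n m : ℕ} {U V : X.Opens} {a : Fin n → Γ(A, U)} {b : Fin m → Γ(B, V)}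
    (ha : IsFrame A a) (hb : IsFrame B b) {x : X} (hxU : x ∈ U) (hxV : x ∈ V) (h : x ∈ BijAt c) : n = m := by
  have e := ((ha.basis x hxU).map (LinearEquiv.ofBijective _ h)).indexEquiv (hb.basis x hxV)
  simpa using Fintype.card_congr e

theorem exists_local (c : A ⟶ B) (hA : FlatMod.IsFinLocFree A) (hB : FlatMod.IsFinLocFree B) (x : X) :
    ∃ W : X.Opens, x ∈ W ∧ IsAffineOpen W ∧ ((BijAt c ∩ W = ∅) ∨
      ∃ (n : ℕ) (a : Fin n → Γ(A, W)) (b : Fin n → Γ(B, W)) (M : Matrix (Fin n) (Fin n) Γ(X, W)),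
        IsFrame A a ∧ IsFrame B b ∧ ∀ j, c.app W (a j) = ∑ i, M i j • b i) := by
  obtain ⟨U, n, a, hxU, ha⟩ := exists_frame hA x
  obtain ⟨V, m, b, hxV, hb⟩ := exists_frame hB x
  by_cases h : n = m
  · subst h
    obtain ⟨W, hW, M, hxW, hWa, hM⟩ := exists_matrix c (a := fun i => ProjFormLib.res A (inf_le_left : U ⊓ V ≤ U) (a i))
      (hb.res (inf_le_right : U ⊓ V ≤ V)) (show x ∈ U ⊓ V from ⟨hxU, hxV⟩)
    exact ⟨W, hxW, hWa, Or.inr ⟨n, _, _, M, (ha.res inf_le_left).res hW, (hb.res inf_le_right).res hW, hM⟩⟩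
  · obtain ⟨W, hWa, hxW, hle⟩ :=
      exists_isAffineOpen_mem_and_subset (X := X) (x := x) (U := U ⊓ V) ⟨hxU, hxV⟩
    exact ⟨W, hxW, hWa, Or.inl (Set.eq_empty_iff_forall_notMem.2 fun y hy =>
      h (eq_of_bijAt c ha hb (hle hy.2).1 (hle hy.2).2 hy.1))⟩

theorem inter_eq_basicOpen (c : A ⟶ B) {n : ℕ} {W : X.Opens} {a : Fin n → Γ(A, W)} {b : Fin n → Γ(B, W)}
    (ha : IsFrame A a) (hb : IsFrame B b) (M : Matrix (Fin n) (Fin n) Γ(X, W))
    (hM : ∀ j, c.app W (a j) = ∑ i, M i j • b i) : BijAt c ∩ W = (X.basicOpen M.det : Set X) :=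
  Set.ext fun _ => ⟨fun h => (matrix_criterion c ha hb M hM h.2).1 h.1,
    fun h => ⟨(matrix_criterion c ha hb M hM (X.basicOpen_le _ h)).2 h, X.basicOpen_le _ h⟩⟩

theorem isOpen_bijAt (c : A ⟶ B) (hA : FlatMod.IsFinLocFree A) (hB : FlatMod.IsFinLocFree B) :
    IsOpen (BijAt c) := isOpen_iff_forall_mem_open.2 fun x hx => by
  obtain ⟨W, hxW, -, h | ⟨n, a, b, M, ha, hb, hM⟩⟩ := exists_local c hA hB x
  · exact absurd (show x ∈ BijAt c ∩ W from ⟨hx, hxW⟩) (h ▸ Set.notMem_empty x)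
  · have e := inter_eq_basicOpen c ha hb M hM
    exact ⟨_, Set.inter_subset_left, e ▸ (X.basicOpen M.det).2, hx, hxW⟩

theorem isLocallyConstructible_bijAt (c : A ⟶ B) (hA : FlatMod.IsFinLocFree A) (hB : FlatMod.IsFinLocFree B) :
    Topology.IsLocallyConstructible (BijAt c) := fun x => by
  obtain ⟨W, hxW, hW, h⟩ := exists_local c hA hB x
  refine ⟨W, W.2.mem_nhds hxW, W.2, ?_⟩
  have : CompactSpace W := isCompact_iff_compactSpace.1 hW.isCompact
  have : QuasiSeparatedSpace (W : Set X) := (isQuasiSeparated_iff_quasiSeparatedSpace _ W.2).1 hW.isQuasiSeparated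
  have hop : IsOpen ((Subtype.val : W → X) ⁻¹' BijAt c) := (isOpen_bijAt c hA hB).preimage continuous_subtype_val
  refine IsCompact.isConstructible ?_ hop
  rw [Subtype.isCompact_iff, Subtype.image_preimage_coe, Set.inter_comm]
  obtain h | ⟨n, a, b, M, ha, hb, hM⟩ := h
  · rw [h]; exact isCompact_empty
  · rw [inter_eq_basicOpen c ha hb M hM]
    exact (hW.basicOpen _).isCompact

variable {Z : Scheme.{u}}

theorem bijAt_pullback (g : Z ⟶ X) (c : A ⟶ B) (hA : FlatMod.IsFinLocFree A) (hB : FlatMod.IsFinLocFree B)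
    (z : Z) : z ∈ BijAt ((Scheme.Modules.pullback g).map c) ↔ g z ∈ BijAt c := by
  obtain ⟨U, n, a, hxU, ha⟩ := exists_frame hA (g z)
  obtain ⟨V, m, b, hxV, hb⟩ := exists_frame hB (g z)
  by_cases hnm : n = m
  · subst hnm
    obtain ⟨W, hW, M, hxW, -, hM⟩ := exists_matrix c (a := fun i => ProjFormLib.res A (inf_le_left : U ⊓ V ≤ U) (a i))
      (hb.res (inf_le_right : U ⊓ V ≤ V)) (show g z ∈ U ⊓ V from ⟨hxU, hxV⟩)
    have ha' := (ha.res (inf_le_left : U ⊓ V ≤ U)).res hW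
    have hb' := (hb.res (inf_le_right : U ⊓ V ≤ V)).res hW
    rw [matrix_criterion c ha' hb' M hM hxW,
      matrix_criterion ((Scheme.Modules.pullback g).map c) (CohCmpLib.isFrame_puSec g ha')
        (CohCmpLib.isFrame_puSec g hb') ((g.app W).hom.mapMatrix M) (fun j => ?_) (x := z) hxW,
      ← RingHom.map_det, ← Scheme.preimage_basicOpen]
    · rfl
    · refine (KFlatLib.puSec_natural g c _).trans ((congrArg (puSec g) (hM j)).trans ?_)
      refine (map_sum (((Scheme.Modules.pullbackPushforwardAdjunction g).unit.app B).app W).hom _ _).trans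
        (Finset.sum_congr rfl fun i _ => ?_)
      exact QCohLib.app_smul ((Scheme.Modules.pullbackPushforwardAdjunction g).unit.app B) W (M i j) _
  · refine ⟨fun h => absurd (eq_of_bijAt _ (CohCmpLib.isFrame_puSec g ha) (CohCmpLib.isFrame_puSec g hb)
      (x := z) hxU hxV h) hnm, fun h => absurd (eq_of_bijAt c ha hb hxU hxV h) hnm⟩

theorem bijAt_of_isIso (c : A ⟶ B) [IsIso c] (x : X) : x ∈ BijAt c :=
  ConcreteCategory.bijective_of_isIso ((DerSch.stalkFunctor X x).map c)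

theorem isIso_of_bijAt (c : A ⟶ B) (h : ∀ x, x ∈ BijAt c) : IsIso c :=
  KFlatLib.isIso_of_stalks c fun x => (ConcreteCategory.isIso_iff_bijective _).mpr (h x)

end SeesawLib
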